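import Cfsg.Agent.GL2D.QS
import Cfsg.Agent.S3099
import Cfsg.Agent.S0204
import Cfsg.Agent.Solv.Cores

/-! Finite subgroups of `GL₂(D)`: the quasisimple case of 2-rank one. -/

set_option autoImplicit false

namespace Cfsg.Lib.GL2D

open Subgroup Matrix

variable (D : Type*) [DivisionRing D] in
/-- The facts from linear algebra. -/
structure Lin : Prop where
  pcomm : ∀ {p : ℕ}, p.Prime → p ≠ 2 → ∀ (P : Subgroup (GG D)) [Finite P], IsPGroup p P →
    (∀ a ∈ P, ∀ b ∈ P, a * b = b * a) ∧ PRankLE p 2 P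
  kernel : ∀ {p : ℕ}, p.Prime → ∀ {a b : GG D}, orderOf a = p → orderOf b = p → a * b = b * a →
    b ∉ zpowers a → ∃ g ∈ closure ({a, b} : Set (GG D)), g ≠ 1 ∧ ∀ n : GG D,
      (∀ e ∈ closure ({a, b} : Set (GG D)), n * e * n⁻¹ ∈ closure ({a, b} : Set (GG D))) →
        (n * n) * g * (n * n)⁻¹ ∈ zpowers g
  frob : ∀ {p n l : ℕ}, p.Prime → ∀ {x k : GG D}, orderOf x = p → k * x * k⁻¹ = x ^ l →
    (∀ j, 0 < j → j < n → ¬ l ^ j ≡ 1 [MOD p]) → k ^ n = 1 → n ≤ 2
  fermat : ∀ {p n l : ℕ}, p.Prime → p = 2 * n + 1 → p % 3 = 2 → ∀ {x k : GG D}, orderOf x = p →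
    k * x * k⁻¹ = x ^ l → (∀ j, 0 < j → j < n → ¬ l ^ j ≡ 1 [MOD p]) → k ^ n = -1 → n ≤ 4

variable {D : Type*} [DivisionRing D]

theorem Lin.no73 (L : Lin D) {Γ S : Type*} [Group Γ] [Group S] (ι : Γ →* GG D)
    (hι : Function.Injective ι) (π : Γ →* S) (hs : Function.Surjective π)
    (hk : ∀ z, π z = 1 → z * z = 1 ∧ ∀ g, g * z = z * g) {x k : S} (hx : x ^ 7 = 1) (hx1 : x ≠ 1)
    (hk3 : k ^ 3 = 1) (h : k * x * k⁻¹ = x ^ 2) : False := by
  obtain ⟨x, rfl⟩ := hs x
  obtain ⟨k, rfl⟩ := hs k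
  have a1 : (x ^ 8) ^ 7 = 1 := by
    rw [← pow_mul, show 8 * 7 = 7 * 2 * 4 from rfl, pow_mul, pow_mul, pow_two,
      (hk _ (by rw [map_pow, hx])).1, one_pow]
  have a2 : (k ^ 4) ^ 3 = 1 := by
    rw [← pow_mul, show 4 * 3 = 3 * 2 * 2 from rfl, pow_mul, pow_mul, pow_two (k ^ 3),
      (hk _ (by rw [map_pow, hk3])).1, one_pow]
  have a3 : π (x ^ 8) = π x := by rw [map_pow, pow_succ, hx, one_mul]
  have a4 : π (k ^ 4) = π k := by rw [map_pow, pow_succ, hk3, one_mul]
  rw [← a3] at hx1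
  rw [← a3, ← a4] at h
  generalize x ^ 8 = y, k ^ 4 = c at a1 a2 hx1 h
  obtain ⟨z, hz⟩ : ∃ z, c * y * c⁻¹ = y ^ 2 * z := ⟨(y ^ 2)⁻¹ * (c * y * c⁻¹), by group⟩
  obtain ⟨z1, z2⟩ := hk z (by
    have := congrArg π hz
    rw [map_mul, map_mul, map_inv, h, map_mul, map_pow] at this
    exact (mul_eq_left.1 this.symm))
  have e := congrArg (· ^ 7) hz
  simp only [conj_pow] at e
  rw [(show Commute _ _ from z2 (y ^ 2)).mul_pow, ← pow_mul, mul_comm 2 7, pow_mul, a1, one_pow,
    mul_one, mul_inv_cancel, one_mul, show 7 = 2 * 3 + 1 from rfl, pow_succ, pow_mul, pow_two, z1,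
    one_pow, one_mul] at e
  rw [← e, mul_one] at hz
  have := Fact.mk (by norm_num : Nat.Prime 7)
  have := L.frob (n := 3) (l := 2) (by norm_num : Nat.Prime 7) (x := ι y) (k := ι c)
    (by rw [orderOf_injective ι hι]
        exact orderOf_eq_prime a1 fun e => hx1 (by rw [e, map_one]))
    (by rw [← map_inv, ← map_mul, ← map_mul, hz, map_pow])
    (fun j a b => by interval_cases j <;> decide) (by rw [← map_pow, a2, map_one])
  omega

section SL

variable {F : Type*} [Field F]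

/-- Upper unitriangular matrices. -/
def uu : Multiplicative F →* SpecialLinearGroup (Fin 2) F :=
  MonoidHom.mk' (fun t => ⟨!![1, t.toAdd; 0, 1], by simp [det_fin_two]⟩) fun s t =>
    Subtype.ext (by
      change _ = !![1, s.toAdd; 0, 1] * !![1, t.toAdd; 0, 1]
      simp [add_comm])

/-- Diagonal matrices. -/
def dd : Fˣ →* SpecialLinearGroup (Fin 2) F :=
  MonoidHom.mk' (fun a => ⟨!![(a : F), 0; 0, ((a⁻¹ : Fˣ) : F)], by simp [det_fin_two]⟩) fun a b =>
    Subtype.ext (by
      change _ = !![(a : F), 0; 0, ((a⁻¹ : Fˣ) : F)] * !![(b : F), 0; 0, ((b⁻¹ : Fˣ) : F)]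
      simp [mul_comm])

theorem uu_val (t : Multiplicative F) : (uu t).1 = !![1, t.toAdd; 0, 1] := rfl

theorem dd_val (a : Fˣ) : (dd a).1 = !![(a : F), 0; 0, ((a⁻¹ : Fˣ) : F)] := rfl

theorem uu_inj : Function.Injective (uu (F := F)) := fun s t h => by
  simpa [uu_val] using congrFun (congrFun (congrArg Subtype.val h) 0) 1

theorem dd_uu (a : Fˣ) (t : F) :
    dd a * uu (.ofAdd t) * (dd a)⁻¹ = uu (.ofAdd ((a : F) ^ 2 * t)) := by
  rw [mul_inv_eq_iff_eq_mul]
  refine Subtype.ext ?_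
  change (dd a).1 * (uu _).1 = (uu _).1 * (dd a).1
  rw [dd_val, uu_val, uu_val]
  simp [pow_two, mul_right_comm _ t]

theorem dd_neg_one : dd (-1 : Fˣ) = -1 := Subtype.ext (by
  rw [dd_val]
  simp [one_fin_two])

theorem units_sq_eq_one'' {a : Fˣ} (h : a * a = 1) : a = 1 ∨ a = -1 := by
  simpa only [Units.ext_iff, Units.val_neg, Units.val_one, Units.val_mul, mul_self_eq_one_iff] using h

theorem Lin.card_of_SL (L : Lin D) [Fintype F] (h2 : Odd (Fintype.card F)) (h3 : 3 < Fintype.card F)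
    (ι : SpecialLinearGroup (Fin 2) F →* GG D) (hι : Function.Injective ι) (hm : ι (-1) = -1) :
    Fintype.card F = 5 ∨ Fintype.card F = 9 := by
  classical
  obtain ⟨p, hp⟩ := CharP.exists F
  obtain ⟨f, pp, hf⟩ := FiniteField.card F p
  have := Fact.mk pp
  have p2 : p ≠ 2 := by
    rintro rfl
    rw [hf] at h2
    exact absurd (Nat.odd_pow_iff f.ne_zero |>.1 h2) (by decide)
  let υ := ι.comp (uu (F := F))
  have hυ : Function.Injective υ := hι.comp uu_inj
  have up : ∀ (t : F) (m : ℤ), υ (.ofAdd t) ^ m = υ (.ofAdd (m * t)) := fun t m => by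
    rw [← map_zpow, ← ofAdd_zsmul, zsmul_eq_mul]
  have u1 : ∀ t : Multiplicative F, υ t ^ p = 1 := fun t => by
    rw [← map_pow, ← map_one υ, ← ofAdd_toAdd t, ← ofAdd_nsmul, nsmul_eq_mul, CharP.cast_eq_zero,
      zero_mul, ofAdd_zero]
  have u2 : ∀ t : F, t ≠ 0 → orderOf (υ (.ofAdd t)) = p := fun t ht =>
    orderOf_eq_prime (u1 _) fun e => ht (hυ (e.trans (map_one υ).symm))
  have u3 : ∀ (a : Fˣ) (t : F), ι (dd a) * υ (.ofAdd t) * (ι (dd a))⁻¹ =
      υ (.ofAdd ((a : F) ^ 2 * t)) := fun a t => by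
    simp only [υ, MonoidHom.comp_apply, ← map_inv ι, ← map_mul ι, dd_uu]
  have cU : Nat.card υ.range = p ^ (f : ℕ) := by
    rw [← Nat.card_congr (MonoidHom.ofInjective hυ).toEquiv, ← hf, ← Nat.card_eq_fintype_card]
    rfl
  have : Finite υ.range := Finite.of_surjective _ υ.rangeRestrict_surjective
  obtain ⟨c1, c2⟩ := L.pcomm pp p2 υ.range (IsPGroup.of_card cU)
  have c3 := c2 ⊤ ⟨⟨fun a b => Subtype.ext (Subtype.ext (c1 _ a.1.2 _ b.1.2))⟩⟩ (by
    rintro ⟨_, t, rfl⟩ -
    exact Subtype.ext (u1 t))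
  rw [card_top, cU, Nat.pow_le_pow_iff_right pp.one_lt] at c3
  obtain ⟨a, ha⟩ := IsCyclic.exists_ofOrder_eq_natCard (α := Fˣ)
  rw [Nat.card_units, Nat.card_eq_fintype_card, hf] at ha
  have hz : Function.Injective (ZMod.castHom (dvd_refl p) F) := RingHom.injective _
  have f1 := f.pos
  rcases (by omega : (f : ℕ) = 1 ∨ (f : ℕ) = 2) with e | e <;> rw [e] at hf ha cU
  · rw [pow_one] at hf ha
    rw [hf] at h3 ⊢
    have key : ∀ c : Fˣ, ∃ l : ℕ, ι (dd c) * υ (.ofAdd 1) * (ι (dd c))⁻¹ = υ (.ofAdd 1) ^ l ∧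
        ∀ j, l ^ j ≡ 1 [MOD p] → orderOf c ∣ 2 * j := fun c => by
      obtain ⟨l, hl⟩ := ((Fintype.bijective_iff_injective_and_card _).2
        ⟨hz, by rw [ZMod.card, hf]⟩).2 ((c : F) ^ 2)
      have hl' : (l.val : F) = (c : F) ^ 2 := by rw [← hl, ZMod.castHom_apply, ZMod.natCast_val]
      refine ⟨l.val, by rw [u3, ← zpow_natCast (υ _), up, Int.cast_natCast, hl'], fun j hj => ?_⟩
      rw [← CharP.natCast_eq_natCast F, Nat.cast_pow, hl', ← pow_mul, Nat.cast_one] at hj
      exact orderOf_dvd_of_pow_eq_one (Units.ext (by simpa using hj))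
    have p3 : p % 3 ≠ 0 := fun e => by
      have := (Nat.prime_dvd_prime_iff_eq Nat.prime_three pp).1 (Nat.dvd_of_mod_eq_zero e)
      omega
    rcases (by omega : p % 3 = 1 ∨ p % 3 = 2) with e3 | e3
    · obtain ⟨c, hc⟩ := exists_prime_orderOf_dvd_card' (G := Fˣ) 3 (by
        rw [Nat.card_units, Nat.card_eq_fintype_card, hf]; omega)
      obtain ⟨l, l1, l2⟩ := key c
      have := L.frob (n := 3) pp (u2 1 one_ne_zero) l1 (fun j a b e => by
        have := l2 j e
        rw [hc] at this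
        omega) (by rw [← map_pow, ← map_pow, ← hc, pow_orderOf_eq_one, map_one, map_one])
      omega
    · obtain ⟨n, hn⟩ := pp.odd_of_ne_two p2
      obtain ⟨l, l1, l2⟩ := key a
      have a1 : orderOf a = 2 * n := by omega
      have := L.fermat pp hn e3 (u2 1 one_ne_zero) l1 (fun j a b e => by
        have := Nat.le_of_dvd (by omega) (l2 j e)
        omega) (by
          have a2 : a ^ n * a ^ n = 1 := by rw [← pow_add, ← two_mul, ← a1, pow_orderOf_eq_one]
          have a3 : a ^ n ≠ 1 := pow_ne_one_of_lt_orderOf (by omega) (by omega)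
          rw [← map_pow, ← map_pow, (units_sq_eq_one'' a2).resolve_left a3, dd_neg_one, hm])
      have p8 : p ≠ 8 := by rintro rfl; norm_num at pp
      omega
  · right
    obtain ⟨w, hw⟩ : ∃ w : F, ∀ m : ℤ, (m : F) ≠ w := by
      by_contra! h
      have := Fintype.card_le_of_surjective (ZMod.castHom (dvd_refl p) F) fun w =>
        (h w).elim fun m e => ⟨m, by rw [map_intCast, e]⟩
      rw [ZMod.card, hf] at this
      nlinarith [pp.one_lt]
    have b1 : υ (.ofAdd w) ∉ zpowers (υ (.ofAdd 1)) := fun ⟨m, e⟩ => by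
      simp only [up, mul_one] at e
      exact hw m (hυ e)
    have b2 : closure {υ (.ofAdd 1), υ (.ofAdd w)} ≤ υ.range := (closure_le _).2 (by
      rintro _ (rfl | rfl) <;> exact ⟨_, rfl⟩)
    have b3 : closure {υ (.ofAdd 1), υ (.ofAdd w)} = υ.range := by
      have : Finite (closure {υ (.ofAdd 1), υ (.ofAdd w)}) :=
        Finite.of_injective _ (inclusion_injective b2)
      obtain ⟨i, i1, i2⟩ := (Nat.dvd_prime_pow pp).1 (cU ▸ card_dvd_of_le b2)
      have b4 : zpowers (υ (.ofAdd 1)) ≤ closure {υ (.ofAdd 1), υ (.ofAdd w)} :=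
        zpowers_le.2 (subset_closure (Or.inl rfl))
      refine eq_of_le_of_card_ge b2 ?_
      by_contra! h
      rw [cU, i2, Nat.pow_lt_pow_iff_right pp.one_lt] at h
      refine b1 ((eq_of_le_of_card_ge b4 ?_).ge (subset_closure (Or.inr rfl)))
      rw [Nat.card_zpowers, u2 1 one_ne_zero, i2]
      exact (Nat.pow_le_pow_right pp.pos (Nat.lt_succ_iff.1 h)).trans (pow_one p).le
    obtain ⟨g, g1, g2, g3⟩ := L.kernel pp (u2 1 one_ne_zero) (u2 w fun e => hw 0 (by simp [e]))
      (by rw [← map_mul υ, ← map_mul υ, mul_comm]) b1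
    rw [b3] at g1 g3
    obtain ⟨v, rfl⟩ := g1
    obtain ⟨m, e1⟩ := g3 (ι (dd a)) (by
      rintro _ ⟨t, rfl⟩
      exact ⟨_, (u3 a t.toAdd).symm⟩)
    rw [← map_mul, ← map_mul, ← ofAdd_toAdd v, u3] at e1
    simp only [up] at e1
    have e2 : (m : F) = ((a * a : Fˣ) : F) ^ 2 := mul_right_cancel₀ (fun e : v.toAdd = 0 => g2 (by
      rw [← ofAdd_toAdd v, e, ofAdd_zero, map_one])) (hυ e1)
    have e3 : a ^ (4 * p) = a ^ 4 := Units.ext (by
      have := map_intCast (frobenius F p) m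
      rw [frobenius_def, e2] at this
      simp only [Units.val_mul, Units.val_pow_eq_pow_val] at this ⊢
      linear_combination this)
    obtain ⟨r, rfl⟩ : ∃ r, p = r + 1 := ⟨p - 1, by have := pp.pos; omega⟩
    rw [mul_add, pow_add, mul_one, mul_eq_right, ← orderOf_dvd_iff_pow_eq_one, ha,
      show (r + 1) ^ 2 - 1 = (r + 2) * r from Nat.sub_eq_of_eq_add (by ring)] at e3
    have r1 : 0 < r := by have := pp.one_lt; omega
    have := Nat.le_of_dvd (by norm_num) (Nat.dvd_of_mul_dvd_mul_right r1 e3)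
    obtain rfl : r = 2 := by omega
    exact hf

end SL

theorem QS.rank_one' (L : Lin D) {G : Subgroup (GG D)} (h : QS G) (h1 : PRankLE 2 1 G) :
    Concl (G ⧸ center G) := by
  have := h.fin
  have := h.simple
  have h2 : 2 ∣ Nat.card (G ⧸ center G) := by
    obtain ⟨E, hE⟩ := Agent.S0204.result (G := G ⧸ center G) fun _ => h.nonab inferInstance
    exact (show 2 ∣ 4 by decide).trans (hE.card_four ▸ card_subgroup_dvd_card E)
  have hO : oddCore G = ⊥ := by
    have a1 := Solv.odd_card_oddCore G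
    rcases ((inferInstance : (oddCore G).Normal).map _
      (QuotientGroup.mk'_surjective (center G))).eq_bot_or_eq_top with e | e
    · rw [Subgroup.map_eq_bot_iff, QuotientGroup.ker_mk'] at e
      obtain ⟨k, hk⟩ := IsPGroup.iff_card.1 (h.cent.to_le e)
      rw [hk] at a1
      rw [← card_eq_one, hk]
      rcases k with _ | k
      · rfl
      · exact absurd (Nat.odd_pow_iff k.succ_ne_zero |>.1 a1) (by decide)
    · have := card_map_dvd (oddCore G) (QuotientGroup.mk' (center G))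
      rw [e, card_top] at this
      exact absurd (h2.trans this) a1.not_two_dvd_nat
  let e0 : (G ⧸ oddCore G) ≃* G :=
    (QuotientGroup.quotientMulEquivOfEq hO).trans QuotientGroup.quotientBot
  rcases Agent.S3099.result ⟨h.perf⟩ h1 (even_iff_two_dvd.2 (h2.trans (card_quotient_dvd_card _)))
    with ⟨F, _, _, a1, a2, ⟨e⟩⟩ | ⟨a1, ⟨e⟩, -⟩
  · let e1 := e.symm.trans e0
    refine ⟨F, inferInstance, inferInstance, L.card_of_SL a1 a2 (G.subtype.comp e1.toMonoidHom)
      (G.subtype_injective.comp e1.injective) ?_, ⟨QuotientGroup.congr _ _ e1.symm ?_⟩⟩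
    · refine (h.inv _ (e1 (-1)).2 (fun g hg => ?_) ?_).resolve_left fun e2 => ?_
      · obtain ⟨x, hx⟩ := e1.surjective ⟨g, hg⟩
        rw [show g = e1 x from congrArg Subtype.val hx.symm, ← coe_mul, ← coe_mul, ← map_mul,
          ← map_mul, mul_neg_one, neg_one_mul]
      · rw [← coe_mul, ← map_mul, neg_mul_neg, mul_one, map_one, coe_one]
      · have e3 : (-1 : SpecialLinearGroup (Fin 2) F) = 1 :=
          e1.injective (Subtype.ext (by rw [e2, map_one, coe_one]))
        have e4 := congrFun (congrFun (congrArg Subtype.val e3) 0) 0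
        have e5 : ringChar F ≠ 2 := fun e => by
          have := FiniteField.even_card_of_char_two e
          rw [Nat.odd_iff] at a1
          omega
        simp only [SpecialLinearGroup.coe_neg, SpecialLinearGroup.coe_one, Matrix.neg_apply,
          one_apply_eq] at e4
        exact Ring.neg_one_ne_one_of_char_ne_two e5 e4
    · ext x
      refine mem_map_equiv.trans ?_
      rw [mem_center_iff, mem_center_iff, e1.surjective.forall]
      simp only [MulEquiv.symm_symm, ← map_mul, e1.injective.eq_iff]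
  · exfalso
    refine L.no73 (G.subtype.comp e0.toMonoidHom) (G.subtype_injective.comp e0.injective)
      (e.toMonoidHom.comp (QuotientGroup.mk' _)) (e.surjective.comp (QuotientGroup.mk'_surjective _))
      (fun z hz => ?_) (x := ⟨finRotate 7, Equiv.Perm.mem_alternatingGroup.2 (by decide)⟩)
      (k := ⟨⟨![0, 2, 4, 6, 1, 3, 5], ![0, 4, 1, 5, 2, 6, 3], by decide, by decide⟩,
        Equiv.Perm.mem_alternatingGroup.2 (by decide)⟩)
      (Subtype.ext (by decide)) (fun e => absurd (congrArg Subtype.val e) (by decide))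
      (Subtype.ext (by decide)) (Subtype.ext (by decide))
    have z1 : z ∈ center _ := (QuotientGroup.eq_one_iff z).1 (e.injective (hz.trans (map_one e).symm))
    refine ⟨?_, mem_center_iff.1 z1⟩
    have := congrArg Subtype.val (pow_card_eq_one' (x := (⟨z, z1⟩ : center _)))
    rwa [a1, pow_two] at this

end Cfsg.Lib.GL2D
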