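import Cfsg.Agent.GL2D.Rank1
import Cfsg.Agent.S4294
import Cfsg.Agent.S0496
import Cfsg.Agent.S0253
import Cfsg.Agent.Known.SmallSimple

/-! Finite subgroups of `GL₂(D)`: reduction to the quasisimple case. -/

set_option autoImplicit false

namespace Cfsg.Lib.GL2D

open Subgroup

theorem Concl.of_equiv {S S' : Type*} [Group S] [Group S'] (h : Concl S) (e : S ≃* S') :
    Concl S' := by
  obtain ⟨F, _, _, a, ⟨f⟩⟩ := h
  exact ⟨F, _, _, a, ⟨e.symm.trans f⟩⟩

theorem concl_of_dvd {S : Type*} [Group S] [Finite S] [IsSimpleGroup S]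
    (hna : ¬ IsMulCommutative S) (h : Nat.card S ∣ 120) : Concl S := by
  have := Fact.mk Nat.prime_five
  have h1 := Nat.le_of_dvd (by norm_num) h
  obtain ⟨e⟩ := Class.nonempty_mulEquiv_A5_of_isSimpleGroup (G := S) (by
    rcases Agent.S0496.result hna (by omega) with h | h | h | h | h | h <;> omega)
  obtain ⟨f⟩ := Agent.S0253.result (F := ZMod 5) (ZMod.card 5)
  exact ⟨ZMod 5, inferInstance, inferInstance, Or.inl (ZMod.card 5), ⟨e.trans f.symm⟩⟩

variable {D : Type*} [DivisionRing D]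

/-- Equality up to sign. -/
def PM (a b : GG D) : Prop := a = b ∨ a = -b

theorem PM.symm {a b : GG D} (h : PM a b) : PM b a := by
  rcases h with rfl | rfl <;> simp [PM]

theorem PM.trans {a b c : GG D} (h : PM a b) (k : PM b c) : PM a c := by
  rcases h with rfl | rfl <;> rcases k with rfl | rfl <;> simp [PM]

theorem PM.mul {a b : GG D} (h : PM a b) (c d : GG D) : PM (c * a * d) (c * b * d) := by
  rcases h with rfl | rfl <;> simp [PM]

theorem PM.cast {a b c d : GG D} (h : PM a b) (e : c = a) (e' : d = b) : PM c d := e ▸ e' ▸ h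

variable (G : Subgroup (GG D)) in
/-- The elements commuting with `u` up to sign. -/
def pmc (u : GG D) : Subgroup G where
  carrier := {g | PM ((g : GG D) * u) (u * (g : GG D))}
  mul_mem' := fun {g h} hg hh => PM.trans (b := (g : GG D) * u * (h : GG D))
    ((PM.mul hh g 1).cast (by simp [mul_assoc]) (by simp [mul_assoc]))
    ((PM.mul hg 1 h).cast (by simp) (by simp [mul_assoc]))
  one_mem' := Or.inl (by simp)
  inv_mem' := fun {g} hg => ((PM.mul hg (g : GG D)⁻¹ (g : GG D)⁻¹).cast (by simp [mul_assoc])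
    (by simp [mul_assoc])).symm

theorem mem_pmc {G : Subgroup (GG D)} {u : GG D} {g : G} :
    g ∈ pmc G u ↔ PM ((g : GG D) * u) (u * (g : GG D)) := Iff.rfl

variable [CharZero D]

theorem neg_ne_self' (x : GG D) : -x ≠ x := fun h => by
  rw [← neg_one_mul, mul_eq_right, ← dg_neg_one, dg_eq_one] at h
  exact neg_one_ne_one' h.1

theorem six {a b c d e f : GG D} (ha : a * a = 1) (hb : b * b = 1) (hc : c * c = 1) (hd : d * d = 1)
    (he : e * e = 1) (hf : f * f = 1) (ab : b * a = -(a * b)) (ac : c * a = -(a * c))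
    (ad : d * a = -(a * d)) (ae : e * a = -(a * e)) (af : f * a = -(a * f)) (bc : c * b = -(b * c))
    (bd : d * b = -(b * d)) (be : e * b = -(b * e)) (bf : f * b = -(b * f)) (cd : d * c = -(c * d))
    (ce : e * c = -(c * e)) (cf : f * c = -(c * f)) (de : e * d = -(d * e)) (df : f * d = -(d * f))
    (ef : f * e = -(e * f)) : False := by
  have t : ∀ {x y : GG D}, y * x = -(x * y) → ∀ z, y * (x * z) = -(x * (y * z)) := fun h z => by
    rw [← mul_assoc, h, neg_mul, mul_assoc]
  have s : ∀ {x : GG D}, x * x = 1 → ∀ z, x * (x * z) = z := fun h z => by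
    rw [← mul_assoc, h, one_mul]
  have w2 : a * b * c * d * (a * b * c * d) = 1 := by
    simp only [mul_assoc, t ab, t ac, t ad, t bc, t bd, t cd, s ha, s hb, s hc, hd, mul_neg, neg_neg]
  have wa : a * b * c * d * a = -(a * (a * b * c * d)) := by
    simp only [mul_assoc, t ab, t ac, ad, mul_neg, neg_neg]
  have key : ∀ x : GG D, x * x = 1 → x * a = -(a * x) → x * b = -(b * x) → x * c = -(c * x) →
      x * d = -(d * x) → PM (a * b * c * d) x := fun x h h1 h2 h3 h4 => by
    by_contra n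
    rw [PM, not_or] at n
    rcases four w2 h (by simp only [mul_assoc, t h1, t h2, t h3, h4, mul_neg, neg_neg])
      (fun e => neg_ne_self' a (by simpa [e] using wa.symm))
      (fun e => neg_ne_self' a (by simpa [e] using h1.symm)) n.1 with e | e | e
    · exact neg_ne_self' a (by simpa [e] using wa)
    · exact neg_ne_self' a (by simpa [e] using h1)
    · exact n.2 e
  rcases (key e he ae be ce de).symm.trans (key f hf af bf cf df) with rfl | rfl
  · exact neg_ne_self' _ ef.symm
  · exact neg_ne_self' (f * f) (by simpa using ef)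

theorem four_anti {a b c d : GG D} (ha : a * a = -1) (hb : b * b = -1) (hc : c * c = -1)
    (ab : b * a = -(a * b)) (ac : c * a = -(a * c)) (ad : d * a = -(a * d)) (bc : c * b = -(b * c))
    (bd : d * b = -(b * d)) (cd : d * c = -(c * d)) :
    a * b * c * (a * b * c) = 1 ∧ ¬ PM (a * b * c) 1 := by
  have t : ∀ {x y : GG D}, y * x = -(x * y) → ∀ z, y * (x * z) = -(x * (y * z)) := fun h z => by
    rw [← mul_assoc, h, neg_mul, mul_assoc]
  have s : ∀ {x : GG D}, x * x = -1 → ∀ z, x * (x * z) = -z := fun h z => by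
    rw [← mul_assoc, h, neg_one_mul]
  have w : d * (a * b * c) = -(a * b * c * d) := by
    simp only [mul_assoc, t ad, t bd, cd, mul_neg, neg_neg]
  refine ⟨by simp only [mul_assoc, t ab, t ac, t bc, s ha, s hb, hc, mul_neg, neg_neg], ?_⟩
  rintro (e | e)
  · exact neg_ne_self' d (by simpa [e] using w.symm)
  · exact neg_ne_self' d (by simpa [e] using w)

theorem exists_five {G : Subgroup (GG D)} [Finite G] [Group.IsPerfect G] (N : Subgroup G)
    [hN : N.Normal] (h2 : IsPGroup 2 N) (hZ : ¬ N ≤ center G)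
    (hi : ∀ z ∈ center G, z * z = 1 → PM (z : GG D) 1) :
    ∃ M : Subgroup G, M ≠ ⊤ ∧ M.index ≤ 5 := by
  have gr : ∀ x : G, (∀ g, g * x * g⁻¹ * x⁻¹ ∈ center G) → x ∈ center G := fun x h => by
    rw [← QuotientGroup.eq_one_iff, ← mem_bot, ← Group.IsPerfect.center_quotient_center_eq_bot,
      mem_center_iff]
    intro g
    obtain ⟨g, rfl⟩ := QuotientGroup.mk_surjective g
    have := (QuotientGroup.eq_one_iff _).2 (h g)
    rwa [QuotientGroup.mk_mul, QuotientGroup.mk_mul, QuotientGroup.mk_mul, QuotientGroup.mk_inv,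
      QuotientGroup.mk_inv, mul_inv_eq_one, mul_inv_eq_iff_eq_mul] at this
  have pc : ∀ x : G, PM (x : GG D) 1 → x ∈ center G := fun x h => mem_center_iff.2 fun g => Subtype.ext (by
    rcases h with h | h <;> simp [h])
  let A : Subgroup G := N ⊓ ⨅ n : N, pmc G (n : G)
  have hA : ∀ x, x ∈ A ↔ x ∈ N ∧ ∀ n ∈ N, PM ((x : GG D) * (n : GG D)) ((n : GG D) * (x : GG D)) := fun x => by
    simp only [A, mem_inf, mem_iInf, Subtype.forall, mem_pmc]
  have nA : ∀ g x, x ∈ A → g * x * g⁻¹ ∈ A := fun g x hx => by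
    rw [hA] at hx ⊢
    exact ⟨hN.conj_mem _ hx.1 g, fun n hn => (PM.mul (hx.2 _ (hN.conj_mem' _ hn g)) g g⁻¹).cast
      (by simp [mul_assoc]) (by simp [mul_assoc])⟩
  obtain ⟨x, x1, x2, x3⟩ : ∃ x ∈ A, x * x ∈ center G ∧ x ∉ center G := by
    have a1 := h2.map (QuotientGroup.mk' (center G))
    have : Nontrivial (N.map (QuotientGroup.mk' (center G))) := (nontrivial_iff_ne_bot _).2 (by
      rwa [Ne, Subgroup.map_eq_bot_iff, QuotientGroup.ker_mk'])
    have := a1.center_nontrivial
    obtain ⟨k, k1, k2⟩ := (a1.to_subgroup (center _)).nontrivial_iff_card.1 this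
    obtain ⟨⟨⟨_, x, hx, rfl⟩, y1⟩, y2⟩ := exists_prime_orderOf_dvd_card' 2
      (k2 ▸ dvd_pow_self 2 k1.ne')
    have y3 : x * x ∈ center G := by
      have := congrArg Subtype.val (congrArg Subtype.val (orderOf_dvd_iff_pow_eq_one.1 y2.dvd))
      rw [← QuotientGroup.eq_one_iff]
      simpa [pow_two] using this
    refine ⟨x, (hA x).2 ⟨hx, fun n hn => ?_⟩, y3, fun h => ?_⟩
    · have b1 : x * n * x⁻¹ * n⁻¹ ∈ center G := by
        have := congrArg Subtype.val (mem_center_iff.1 y1 ⟨_, n, hn, rfl⟩)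
        rw [← QuotientGroup.eq_one_iff, QuotientGroup.mk_mul, QuotientGroup.mk_mul,
          QuotientGroup.mk_mul, QuotientGroup.mk_inv, QuotientGroup.mk_inv, mul_inv_eq_one,
          mul_inv_eq_iff_eq_mul]
        exact this.symm
      have b2 := hi _ b1 (by
        calc _ = (x * (x * n * x⁻¹ * n⁻¹)) * x⁻¹ * (x * n * x⁻¹ * n⁻¹) := by
              rw [mem_center_iff.1 b1 x, mul_inv_cancel_right]
          _ = x * x * n * (x * x)⁻¹ * n⁻¹ * (n * x * n⁻¹ * x⁻¹ * (x * n * x⁻¹ * n⁻¹)) := by group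
          _ = 1 := by rw [← mem_center_iff.1 y3 n]; group)
      exact (PM.mul b2 1 (n * x : G)).cast (by simp [mul_assoc]) (by simp)
    · rw [orderOf_eq_one_iff.2 (Subtype.ext (Subtype.ext ((QuotientGroup.eq_one_iff _).2 h)))] at y2
      omega
  obtain ⟨u, u1, u2, u3⟩ : ∃ u ∈ A, u ∉ center G ∧ ((u : GG D) * (u : GG D) = 1 ∨ ((u : GG D) * (u : GG D) = -1 ∧
      ∀ y ∈ A, (y : GG D) * (y : GG D) = 1 → PM (y : GG D) 1)) := by
    by_cases h : ∀ y ∈ A, (y : GG D) * (y : GG D) = 1 → PM (y : GG D) 1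
    · obtain ⟨g, hg⟩ := not_forall.1 (mt (gr x) x3)
      refine ⟨_, A.mul_mem (nA g x x1) (A.inv_mem x1), hg, Or.imp_right (fun e => ⟨e, h⟩) ?_⟩
      have b1 := ((hA _).1 (nA g x x1)).2 _ (N.inv_mem ((hA _).1 x1).1)
      have b2 : g * x * g⁻¹ * (g * x * g⁻¹) * (x⁻¹ * x⁻¹) = 1 := by
        rw [conj_mul, mem_center_iff.1 x2 g]; group
      exact (PM.mul b1.symm (g * x * g⁻¹ : G) (x⁻¹ : G)).cast (by simp [mul_assoc])
        (by rw [← coe_one G, ← b2]; simp [mul_assoc])
    · push Not at h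
      obtain ⟨y, y1, y2, y3⟩ := h
      exact ⟨y, y1, fun h => y3 (hi y h (Subtype.ext y2)), Or.inl y2⟩
  refine ⟨pmc G u, fun e => u2 (gr u fun g => pc _ ?_), ?_⟩
  · exact (PM.mul (mem_pmc.1 (e.ge (mem_top g))) 1 ((g : GG D)⁻¹ * (u : GG D)⁻¹)).cast
      (by simp [mul_assoc]) (by simp [mul_assoc])
  · by_contra! h
    obtain ⟨f⟩ : Nonempty (Fin 6 ↪ G ⧸ pmc G u) := by
      have := Fintype.ofFinite (G ⧸ pmc G u)
      exact Function.Embedding.nonempty_of_card_le (by
        rw [Fintype.card_fin, ← Nat.card_eq_fintype_card]; exact h)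
    let v : Fin 6 → G := fun i => (f i).out * u * (f i).out⁻¹
    have v1 : ∀ i, v i ∈ A := fun i => nA _ _ u1
    have v2 : ∀ i j, i ≠ j → ¬ PM (v i : GG D) (v j : GG D) := fun i j a b => a (f.injective (by
      rw [← (f i).out_eq', ← (f j).out_eq', QuotientGroup.eq, mem_pmc]
      exact (PM.mul b.symm ((f i).out : GG D)⁻¹ (f j).out).cast (by simp [v, mul_assoc])
        (by simp [v, mul_assoc])))
    have v3 : ∀ i j, PM ((v i : GG D) * (v j : GG D)) ((v j : GG D) * (v i : GG D)) := fun i j =>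
      ((hA _).1 (v1 i)).2 _ ((hA _).1 (v1 j)).1
    rcases u3 with e | ⟨e, k⟩
    · have s : ∀ i, (v i : GG D) * (v i : GG D) = 1 := fun i => by
        simp only [v, coe_mul, coe_inv, conj_mul, e, mul_one, mul_inv_cancel]
      have t : ∀ i j, i ≠ j → (v j : GG D) * (v i : GG D) = -((v i : GG D) * (v j : GG D)) := fun i j a =>
        (v3 j i).resolve_left fun b => by
          have n : ∀ i, ¬ PM (v i : GG D) 1 := fun i c => u2 (by
            have := (inferInstance : (center G).Normal).conj_mem' _ (pc _ c) (f i).out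
            simpa [v, mul_assoc] using this)
          rcases four (s i) (s j) b.symm (fun c => n i (Or.inl c)) (fun c => n j (Or.inl c))
            (fun c => v2 i j a (Or.inl c)) with c | c | c
          exacts [n i (Or.inr c), n j (Or.inr c), v2 i j a (Or.inr c)]
      exact six (s 0) (s 1) (s 2) (s 3) (s 4) (s 5) (t 0 1 (by decide)) (t 0 2 (by decide))
        (t 0 3 (by decide)) (t 0 4 (by decide)) (t 0 5 (by decide)) (t 1 2 (by decide))
        (t 1 3 (by decide)) (t 1 4 (by decide)) (t 1 5 (by decide)) (t 2 3 (by decide))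
        (t 2 4 (by decide)) (t 2 5 (by decide)) (t 3 4 (by decide)) (t 3 5 (by decide))
        (t 4 5 (by decide))
    · have s : ∀ i, (v i : GG D) * (v i : GG D) = -1 := fun i => by
        simp only [v, coe_mul, coe_inv, conj_mul, e, mul_neg, neg_mul, mul_one, mul_inv_cancel]
      have t : ∀ i j, i ≠ j → (v j : GG D) * (v i : GG D) = -((v i : GG D) * (v j : GG D)) := fun i j a =>
        (v3 j i).resolve_left fun b => v2 i j a (by
          have c := k _ (A.mul_mem (v1 i) (v1 j)) (by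
            rw [coe_mul, mul_assoc, ← mul_assoc (v j : GG D), b, mul_assoc, s, ← mul_assoc, s]; simp)
          have d := PM.mul c 1 (v j)
          rw [coe_mul, one_mul, mul_assoc, s, mul_neg_one, one_mul, one_mul] at d
          exact PM.trans (Or.inr (neg_neg _).symm) d)
      obtain ⟨c, d⟩ := four_anti (s 0) (s 1) (s 2) (t 0 1 (by decide)) (t 0 2 (by decide))
        (t 0 3 (by decide)) (t 1 2 (by decide)) (t 1 3 (by decide)) (t 2 3 (by decide))
      exact d (k _ (A.mul_mem (A.mul_mem (v1 0) (v1 1)) (v1 2)) c)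

omit [CharZero D] in
theorem Lin.two_group (L : Lin D) {G : Subgroup (GG D)} [Finite G] [Group.IsPerfect G]
    (N : Subgroup G) [N.Normal] (h1 : ∀ K : Subgroup G, K ⊔ N = ⊤ → K = ⊤)
    (h2 : ∀ K : Subgroup G, K.Normal → K ≤ N ∨ K = ⊤) : IsPGroup 2 N := by
  refine IsPGroup.of_card (Nat.eq_prime_pow_of_unique_prime_dvd Nat.card_pos.ne' fun {p} pp hp => ?_)
  by_contra p2
  have := Fact.mk pp
  obtain ⟨Q⟩ : Nonempty (Sylow p N) := inferInstance
  have a1 : ((Q : Subgroup N).map N.subtype).Normal :=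
    normalizer_eq_top_iff.1 (h1 _ Q.normalizer_sup_eq_top)
  obtain ⟨P, hP⟩ := (Q.isPGroup'.map N.subtype).exists_le_sylow
  have : Finite ((P : Subgroup G).map G.subtype) :=
    Finite.of_equiv _ (equivMapOfInjective _ _ G.subtype_injective).toEquiv
  have a2 : ∀ a ∈ (P : Subgroup G), ∀ b ∈ (P : Subgroup G), a * b = b * a := fun a ha b hb =>
    Subtype.ext ((L.pcomm pp p2 _ (P.isPGroup'.map G.subtype)).1 _ ⟨a, ha, rfl⟩ _ ⟨b, hb, rfl⟩)
  obtain ⟨⟨z, hz⟩, z1⟩ := ne_bot_iff_exists_ne_one.1 (Q.ne_bot_of_dvd_card hp)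
  have z2 : (z : G) ∈ (Q : Subgroup N).map N.subtype := ⟨z, hz, rfl⟩
  have z3 : (z : G) ≠ 1 := fun e => z1 (Subtype.ext (Subtype.ext e))
  rcases h2 (centralizer ((Q : Subgroup N).map N.subtype : Set G)) inferInstance with e | e
  · have a3 : (P : Subgroup G) ≤ N := le_trans
      (fun x hx => mem_centralizer_iff.2 fun y hy => a2 _ (hP hy) _ hx) e
    have a4 : (P : Subgroup G).Normal := normalizer_eq_top_iff.1 (h1 _ (P.normalizer_sup_eq_top' a3))
    obtain ⟨K, hK⟩ := exists_right_complement'_of_coprime P.card_coprime_index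
    have a5 := h1 K (top_le_iff.1 (hK.symm.sup_eq_top.ge.trans (sup_le_sup_left a3 K)))
    exact z3 (disjoint_def.1 hK.disjoint (hP z2) (a5.ge (mem_top _)))
  · have : IsMulCommutative (P : Subgroup G) := ⟨⟨fun a b => Subtype.ext (a2 _ a.2 _ b.2)⟩⟩
    exact z3 (Known.eq_one_of_central_in_normalizer P (hP z2) fun n _ =>
      (mem_centralizer_iff.1 (e.ge (mem_top n)) _ z2).symm)

theorem concl_of_inv {G : Subgroup (GG D)} [Finite G] [Group.IsPerfect G] {S : Type*} [Group S]
    [IsSimpleGroup S] (hna : ¬ IsMulCommutative S) (φ : G →* S) (hφ : Function.Surjective φ)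
    (h2 : ∀ K : Subgroup G, K.Normal → K ≤ φ.ker ∨ K = ⊤) {z : GG D} (z2 : z * z = 1)
    (z1 : ¬ PM z 1) (hz : ∀ g ∈ G, g * z = z * g) : Concl S := by
  have := Finite.of_surjective φ hφ
  have := Fact.mk Nat.prime_five
  have hk : φ.ker ≠ ⊤ := fun e => not_subsingleton S (subsingleton_of_forall_eq 1 fun s => by
    obtain ⟨g, rfl⟩ := hφ s
    exact e.ge (mem_top g))
  have key : ∀ α : G →* Dˣ, α.ker ≤ φ.ker → Concl S := fun α h => by
    have : Finite α.range := Finite.of_surjective _ α.rangeRestrict_surjective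
    have := Group.IsPerfect.range α
    have : Nontrivial α.range := (nontrivial_iff_ne_bot _).2 fun e => hk (top_le_iff.1 fun g _ =>
      h (mem_bot.1 (e.le ⟨g, rfl⟩)))
    obtain ⟨e⟩ := Agent.S4294.result α.range (Group.IsPerfect.not_isSolvable _)
    refine concl_of_dvd hna ?_
    have a := index_dvd_of_le h
    rwa [index_ker, index_ker, MonoidHom.range_eq_top.2 hφ, card_top, Nat.card_congr e.toEquiv,
      Known.GL2.card_SL_two, ZMod.card] at a
  obtain ⟨P, hP⟩ := exists_conj_tt z2 (fun e => z1 (Or.inl e)) fun e => z1 (Or.inr e)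
  choose a b hab using fun g : G => exists_dg_of_comm (g := P * (g : GG D) * P⁻¹) (by
    rw [← hP, conj_mul, conj_mul, hz _ g.2])
  have hm : ∀ g h : G, a (g * h) = a g * a h ∧ b (g * h) = b g * b h := fun g h => by
    rw [← dg_inj, ← dg_mul, ← hab, ← hab, ← hab, conj_mul, coe_mul]
  rcases h2 (MonoidHom.mk' a fun g h => (hm g h).1).ker inferInstance with e | e
  · exact key _ e
  rcases h2 (MonoidHom.mk' b fun g h => (hm g h).2).ker inferInstance with e' | e'
  · exact key _ e'
  refine absurd (top_le_iff.1 fun g _ => ?_) hk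
  have := hab g
  rw [show a g = 1 from e.ge (mem_top g), show b g = 1 from e'.ge (mem_top g), dg_one,
    conj_eq_one_iff] at this
  rw [show g = 1 from Subtype.ext this]
  exact one_mem _

theorem main_aux (L : Lin D) (hA : ∀ G : Subgroup (GG D), QS G → PRankLE 2 1 G) {S : Type*}
    [Group S] [IsSimpleGroup S] (hna : ¬ IsMulCommutative S) (n : ℕ) :
    ∀ (G : Subgroup (GG D)) [Finite G], Nat.card G = n → ∀ φ : G →* S, Function.Surjective φ →
      Concl S := by
  induction n using Nat.strong_induction_on with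
  | _ n ih =>
  intro G _ hn φ hφ
  have := Finite.of_surjective φ hφ
  by_cases h1 : ∀ K : Subgroup G, K.map φ = ⊤ → K = ⊤
  swap
  · push Not at h1
    obtain ⟨K, k1, k2⟩ := h1
    let e := equivMapOfInjective K _ G.subtype_injective
    have : Finite (K.map G.subtype) := Finite.of_equiv _ e.toEquiv
    refine ih _ ?_ (K.map G.subtype) rfl ((φ.comp K.subtype).comp e.symm.toMonoidHom) fun s => ?_
    · rw [card_subtype, ← hn]
      exact lt_of_le_of_ne (card_le_card_group K) (mt (card_eq_iff_eq_top K).1 k2)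
    · obtain ⟨g, hg, rfl⟩ := k1.ge (mem_top s)
      exact ⟨e ⟨g, hg⟩, by simp⟩
  have h2 : ∀ K : Subgroup G, K.Normal → K ≤ φ.ker ∨ K = ⊤ := fun K hK =>
    (hK.map φ hφ).eq_bot_or_eq_top.imp (Subgroup.map_eq_bot_iff K).1 (h1 K)
  have hc : ¬ ∀ g h : G, φ g * φ h = φ h * φ g := fun h => hna ⟨⟨fun s t => by
    obtain ⟨g, rfl⟩ := hφ s
    obtain ⟨k, rfl⟩ := hφ t
    exact h g k⟩⟩
  have hp : Group.IsPerfect G := ⟨(h2 _ inferInstance).resolve_left fun e => hc fun g h => by
    have := e (commutator_mem_commutator (mem_top g) (mem_top h))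
    rwa [MonoidHom.mem_ker, map_commutatorElement, commutatorElement_eq_one_iff_mul_comm] at this⟩
  have h3 := L.two_group φ.ker (fun K e => h1 K (by
    rw [← map_top_of_surjective φ hφ, ← e, Subgroup.map_sup, map_ker_self, sup_bot_eq])) h2
  by_cases h4 : ∀ z ∈ G, (∀ g ∈ G, g * z = z * g) → z * z = 1 → PM z 1
  swap
  · push Not at h4
    obtain ⟨z, -, z1, z2, z3⟩ := h4
    exact concl_of_inv hna φ hφ h2 z2 z3 z1
  by_cases h5 : φ.ker ≤ center G
  · have h6 : center G = φ.ker := le_antisymm ((h2 _ inferInstance).resolve_right fun e =>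
      hc fun g h => by rw [← map_mul, ← map_mul, mem_center_iff.1 (e.ge (mem_top h))]) h5
    let e : G ⧸ center G ≃* S :=
      (QuotientGroup.quotientMulEquivOfEq h6).trans (QuotientGroup.quotientKerEquivOfSurjective φ hφ)
    have q : QS G := ⟨inferInstance, hp.1, h6 ▸ h3, e.isSimpleGroup, fun _ => hna ⟨⟨fun s t =>
      e.symm.injective (by rw [map_mul, map_mul, mul_comm'])⟩⟩, h4⟩
    exact (q.rank_one' L (hA G q)).of_equiv e
  · obtain ⟨M, m1, m2⟩ := exists_five φ.ker h3 h5 fun z a b => h4 z z.2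
      (fun g hg => congrArg Subtype.val (mem_center_iff.1 a ⟨g, hg⟩)) (congrArg Subtype.val b)
    exact concl_of_dvd hna ((Local.card_dvd_factorial_index (mt (h1 M) m1)).trans
      (Nat.factorial_dvd_factorial (n := 5)
        ((Nat.le_of_dvd (Nat.pos_of_ne_zero index_ne_zero_of_finite) (index_map_dvd M hφ)).trans m2)))

theorem main' (L : Lin D) (hA : ∀ G : Subgroup (GG D), QS G → PRankLE 2 1 G)
    (G : Subgroup (GG D)) [Finite G] (N : Subgroup G) [N.Normal] (hS : IsSimpleGroup (G ⧸ N))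
    (hna : ¬ IsMulCommutative (G ⧸ N)) : Concl (G ⧸ N) ∧ N ≠ ⊥ := by
  refine ⟨main_aux L hA hna _ G rfl _ (QuotientGroup.mk'_surjective N), ?_⟩
  rintro rfl
  let e : G ≃* G ⧸ (⊥ : Subgroup G) := QuotientGroup.quotientBot.symm
  have := e.isSimpleGroup
  have hc : ¬ IsMulCommutative G := fun _ => hna ⟨⟨fun s t =>
    e.symm.injective (by rw [map_mul, map_mul, mul_comm'])⟩⟩
  have hm : ∀ z : G, (z : GG D) ≠ -1 := fun z hz => by
    rcases (inferInstance : (center G).Normal).eq_bot_or_eq_top with h | h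
    · have : z ∈ center G := mem_center_iff.2 fun g => Subtype.ext (by simp [hz])
      rw [h, mem_bot] at this
      rw [this] at hz
      exact neg_ne_self' _ hz.symm
    · exact hc ⟨⟨fun a b => mem_center_iff.1 (h.ge (mem_top b)) a⟩⟩
  obtain ⟨E, hE⟩ := Agent.S0204.result (G := G) fun _ => hc inferInstance
  have : Nontrivial E := Finite.one_lt_card_iff_nontrivial.1 (by rw [hE.card_four]; norm_num)
  obtain ⟨a, ha⟩ := exists_ne (1 : E)
  obtain ⟨b, b1, b2⟩ : ∃ b : E, b ≠ 1 ∧ b ≠ a := by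
    by_contra! h
    have := Nat.card_le_card_of_surjective (fun i : Bool => if i then a else 1) fun x => by
      by_cases c : x = 1
      exacts [⟨false, c.symm⟩, ⟨true, (h x c).symm⟩]
    rw [hE.card_four] at this
    simp at this
  have s : ∀ x : E, ((x : G) : GG D) * ((x : G) : GG D) = 1 := fun x =>
    congrArg Subtype.val (congrArg Subtype.val (IsKleinFour.mul_self x))
  have c : a * b = b * a := by
    rw [← inv_inj, mul_inv_rev, IsKleinFour.inv_eq_self, IsKleinFour.inv_eq_self,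
      IsKleinFour.inv_eq_self]
  rcases four (s a) (s b) (congrArg Subtype.val (congrArg Subtype.val c))
    (fun e => ha (Subtype.ext (Subtype.ext e))) (fun e => b1 (Subtype.ext (Subtype.ext e)))
    (fun e => b2 (Subtype.ext (Subtype.ext e)).symm) with h | h | h
  · exact hm _ h
  · exact hm _ h
  · exact hm (a * b) (by rw [coe_mul, h, neg_mul, s])

end Cfsg.Lib.GL2D
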